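import Cfsg.Agent.INV.SZ8.NoA

/-!
# SZ8/El : the Sylow 2-subgroups of `K = C(A)` are elementary abelian and `N(R U) ≰ N(A)`
-/

set_option autoImplicit false
set_option linter.unusedSectionVars false
open Cfsg Subgroup CL.MSS CL.Gold CL.St2

namespace CL.Sz8

open F8

universe u

variable {G : Type u} [Group G] [Finite G]

omit [Finite G] in
theorem cj_ne {t g : G} (h : t ≠ 1) : g⁻¹ * t * g ≠ 1 := fun e => h (by
  rw [show t = g * (g⁻¹ * t * g) * g⁻¹ by group, e]; group)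

namespace Su

variable (Γ : Su G)

/-- `k z` lies in a conjugate of `K` other than `K` -/
def Tr (k : G) : Prop := ∃ g, g ∉ Γ.N ∧ ∃ b, g⁻¹ * (k * Γ.z b) * g ∈ Γ.K ∧ k * Γ.z b ≠ 1

theorem z_of_K {g : G} {b : F8} (e : g⁻¹ * Γ.z b * g ∈ Γ.K) : b = 0 := by
  have := Γ.noA _ e (by simpa using sq_cj g⁻¹ (Γ.z_sq b)) g (by simpa [mul_assoc] using Γ.zA b)
  exact Γ.z_eq_one.1 (by simpa [mul_assoc, inv_mul_eq_iff_eq_mul] using this)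

theorem kz_sq {k : G} (hk : k ∈ Γ.K) (k2 : k * k = 1) (b : F8) : k * Γ.z b * (k * Γ.z b) = 1 := by
  rw [Γ.mul_mul k _ hk (Γ.zA b), k2, Γ.z_sq, one_mul]

theorem red {g : G} (hg : g ∉ Γ.N) {T : Subgroup G} (hT : IsPGroup 2 T) (T1 : T ≠ ⊥) (TN : T ≤ Γ.N)
    (TK : ∀ τ ∈ T, g⁻¹ * τ * g ∈ Γ.K) : ∃ R ≤ Γ.K, (∀ r ∈ R, r * r = 1) ∧ Nat.card T ≤ Nat.card R ∧
      ∀ r ∈ R, r ≠ 1 → Γ.Tr r := by
  have : Fact (Nat.Prime 2) := ⟨Nat.prime_two⟩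
  obtain ⟨⟨j₀, hj₀⟩, j1⟩ := ne_bot_iff_exists_ne_one.1 (inf_centralizer_ne_bot hT hT le_normalizer T1)
  obtain ⟨n, j2, j1⟩ := exists_inv_mem hT hj₀.1 fun e => j1 (Subtype.ext e)
  have hj := pow_mem hj₀ n
  generalize j₀ ^ n = j at j1 j2 hj
  obtain ⟨k, hk, a, ha, rfl⟩ := Γ.two (TN hj.1) (n := 1) (by rwa [pow_one, sq])
  have j2' := j2
  rw [Γ.mul_mul k a hk ha] at j2'
  obtain ⟨k2, a2⟩ := Γ.ext (mul_mem hk hk) (one_mem _) (mul_mem ha ha) (one_mem _) (j2'.trans (mul_one 1).symm)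
  obtain ⟨c, hc, e⟩ := Γ.inv a ha a2 fun e => hg (inv_mem_iff.1 (Γ.tight _ (by simpa [e] using hk) j2 j1 _
    (by simpa using TK _ hj.1)))
  have hg' : c * g ∉ Γ.N := fun x => hg ((mul_mem_cancel_left (Γ.A_le_N hc)).1 x)
  have TK' : ∀ τ ∈ c •ᶜ T, (c * g)⁻¹ * τ * (c * g) ∈ Γ.K := fun τ h => by simpa [mul_assoc] using TK _ (mem_cj.1 h)
  have ej : c * (k * a) * c⁻¹ = k * Γ.z 1 := by rw [← conj_mul, Γ.conj_K hk hc, e]
  have jT : k * Γ.z 1 ∈ c •ᶜ T := ej ▸ conj_mem_cj hj.1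
  have jc : ∀ τ ∈ c •ᶜ T, τ * (k * Γ.z 1) = k * Γ.z 1 * τ := fun τ h => by
    obtain ⟨y, hy, rfl⟩ := mem_cj'.1 h
    exact ej ▸ cm_cj c (hj.2 y hy)
  have jn : k * Γ.z 1 ≠ 1 := by rw [← ej]; simpa using j1
  have hT' := isPGroup_cj c hT
  have TN' : c •ᶜ T ≤ Γ.N := cj_le_of_mem TN (Γ.A_le_N hc)
  rw [← card_cj c]
  generalize c •ᶜ T = T at TK' jT jc hT' TN'
  generalize c * g = g at hg' TK'
  have dec : ∀ τ ∈ T, ∃ κ ∈ Γ.K, ∃ b, τ = κ * Γ.z b := fun τ h => by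
    obtain ⟨n, hn⟩ := pow_two_of_mem hT' h
    obtain ⟨κ, hκ, a, ha, rfl⟩ := Γ.two (TN' h) hn
    obtain ⟨a₁, b, rfl⟩ := Γ.cenA a ha 1 one_ne_zero ((Γ.comm_iff hκ hk ha (Γ.zA 1)).1 (jc _ h)).2
    obtain ⟨d, d0, d1⟩ := F8.ex_ne a₁
    have n : g⁻¹ * Γ.u d 0 * g ∈ Γ.N := Γ.cen_le_N (TK' _ jT) (by simpa using sq_cj g⁻¹ (Γ.kz_sq hk k2 1))
      (cj_ne jn) (by
        simpa using cm_cj g⁻¹ (show Γ.u d 0 * (k * Γ.z 1) = k * Γ.z 1 * Γ.u d 0 by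
          rw [← mul_assoc, ← Γ.comm hk (Γ.uA d 0), mul_assoc, mul_assoc, Γ.z_comm]))
    have := Γ.z_of_K (g := g) (b := br a₁ d) (by
      convert mul_mem (inv_mem (TK' _ h)) (Γ.N_conj_K (inv_mem n) (TK' _ h)) using 1
      have : (κ * Γ.u a₁ b)⁻¹ * ((Γ.u d 0)⁻¹ * (κ * Γ.u a₁ b) * Γ.u d 0) = Γ.z (br a₁ d) := by
        rw [show (Γ.u d 0)⁻¹ * (κ * Γ.u a₁ b) * Γ.u d 0 = (Γ.u d 0)⁻¹ * κ * (Γ.u a₁ b * Γ.u d 0) by group,
          Γ.u_comm a₁ b d 0, ← Γ.comm hκ (inv_mem (Γ.uA d 0))]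
        group
      rw [← this]; group)
    obtain rfl := ((br_eq_zero a₁ d).1 this).resolve_right fun x => x.elim d0 fun y => d1 y.symm
    exact ⟨κ, hκ, b, rfl⟩
  let R : Subgroup G :=
    { carrier := {κ | κ ∈ Γ.K ∧ ∃ b, κ * Γ.z b ∈ T}
      one_mem' := ⟨one_mem _, 0, by rw [Γ.z_zero, mul_one]; exact one_mem _⟩
      mul_mem' := fun {κ κ'} ⟨h1, b, e⟩ ⟨h2, b', e'⟩ => ⟨mul_mem h1 h2, b + b', by
        rw [← Γ.z_mul, ← Γ.mul_mul κ _ h2 (Γ.zA b)]; exact mul_mem e e'⟩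
      inv_mem' := fun {κ} ⟨h1, b, e⟩ => ⟨inv_mem h1, b, by
        rw [Γ.comm (inv_mem h1) (Γ.zA b), ← Γ.z_inv, ← mul_inv_rev]; exact inv_mem e⟩ }
  refine ⟨R, fun _ h => h.1, fun r ⟨h1, b, e⟩ => ?_, ?_, fun r ⟨h1, b, e⟩ r1 => ⟨g, hg', b, TK' _ e, fun x => r1
    (Γ.ext h1 (one_mem _) (Γ.zA b) (one_mem _) (x.trans (mul_one 1).symm)).1⟩⟩
  · have m := mul_mem e e
    rw [Γ.mul_mul r _ h1 (Γ.zA b), Γ.z_sq, mul_one] at m
    by_contra x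
    exact hg' (inv_mem_iff.1 (Γ.tight' hT' m (mul_mem h1 h1) x (by simpa using TK' _ m)))
  · choose κ hκ b e using dec
    refine Nat.card_le_card_of_injective (fun τ : T => (⟨κ τ τ.2, hκ τ τ.2, b τ τ.2, e τ τ.2 ▸ τ.2⟩ : R))
      fun σ τ x => Subtype.ext ?_
    have x : κ σ σ.2 = κ τ τ.2 := congrArg Subtype.val x
    have m := mul_mem (inv_mem σ.2) τ.2
    rw [e σ σ.2, e τ τ.2, x] at m ⊢
    rw [mul_inv_rev, mul_assoc, inv_mul_cancel_left, Γ.z_inv, Γ.z_mul] at m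
    rw [show b σ σ.2 = b τ τ.2 by linear_combination Γ.z_of_K (TK' _ m) - add_self (b τ τ.2)]

end Su

/-- A Sylow 2-subgroup `R` of `K` is elementary abelian and `N(R U) ≰ N(A)`. -/
theorem Su.exists_el (Γ : Su G) : ∃ Λ : El G, Λ.toSu = Γ := by
  have : Fact (Nat.Prime 2) := ⟨Nat.prime_two⟩
  have nb : ∀ {T : Subgroup G} {t : G}, t ∈ T → t ≠ 1 → T ≠ ⊥ := fun h t1 e => t1 (mem_bot.1 (e.le h))
  obtain ⟨P, ⟨hP, PK, k, kP, k2, kc, g, hg, b, e, e1⟩, hmax⟩ := Set.exists_max_image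
    {P : Subgroup G | IsPGroup 2 P ∧ P ≤ Γ.K ∧ ∃ k ∈ P, k * k = 1 ∧ (∀ x ∈ P, x * k = k * x) ∧ Γ.Tr k}
    (fun P => Nat.card P) (Set.toFinite _) (by
      obtain ⟨g, hg, t, ht, t2, t1, m⟩ := Γ.ex
      obtain ⟨R, RK, R2, c, tr⟩ := Γ.red hg (T := zpowers (g * t * g⁻¹))
        (pg_zpowers (n := 1) (by rw [pow_one, sq]; exact sq_cj g t2)) (nb (mem_zpowers _) (by simpa using t1))
        (zpowers_le.2 m) (by
          rintro _ ⟨n, rfl⟩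
          convert zpow_mem ht n using 1
          simp only [conj_zpow]; group)
      have : R ≠ ⊥ := fun x => by
        rw [x, card_bot] at c
        exact nb (mem_zpowers _) (by simpa using t1) (eq_bot_of_card_le _ c)
      obtain ⟨⟨r, hr⟩, r1⟩ := ne_bot_iff_exists_ne_one.1 this
      exact ⟨R, pg_of_sq R2, RK, r, hr, R2 r hr, fun x hx => comm_of_sq R2 hx hr,
        tr r hr fun x => r1 (Subtype.ext x)⟩)
  have k1 : k ≠ 1 := fun x => e1 (by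
    rw [x, one_mul] at e ⊢
    rw [Γ.z_of_K e, Γ.z_zero])
  obtain ⟨R, RK, R2, c, tr⟩ := Γ.red (g := g⁻¹) (fun x => hg (inv_mem_iff.1 x)) (isPGroup_cj g⁻¹ hP)
    (fun x => nb kP k1 (cj_eq_bot_iff.1 x)) (cj_le_iff_forall.2 fun x hx =>
      Γ.cen_le_N e (by simpa using sq_cj g⁻¹ (Γ.kz_sq (PK kP) k2 b)) (cj_ne e1) (by
        simpa using cm_cj g⁻¹ (show x * (k * Γ.z b) = k * Γ.z b * x by
          rw [← mul_assoc, kc x hx, mul_assoc, mul_assoc, Γ.comm (PK hx) (Γ.zA b)])))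
    fun τ h => PK (mem_cj.1 h)
  rw [card_cj] at c
  have R1 : R ≠ ⊥ := fun x => by
    rw [x, card_bot] at c
    exact nb kP k1 (eq_bot_of_card_le _ c)
  have hR : SylIn 2 R Γ.K := SylIn.of_normalizer ⟨le_inf RK le_normalizer, pg_of_sq R2, fun Q hQ l1 l2 => by
    obtain ⟨⟨r, hr⟩, r1⟩ := ne_bot_iff_exists_ne_one.1
      (inf_centralizer_ne_bot hQ (pg_of_sq R2) (l2.trans inf_le_right) R1)
    exact (eq_of_le_of_card_ge l1 ((hmax Q ⟨hQ, l2.trans inf_le_left, r, l1 hr.1, R2 r hr.1, hr.2,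
      tr r hr.1 fun x => r1 (Subtype.ext x)⟩).trans c)).symm⟩
  obtain ⟨⟨r, hr⟩, r1⟩ := ne_bot_iff_exists_ne_one.1 R1
  obtain ⟨g, hg, b, e, e1⟩ := tr r hr fun x => r1 (Subtype.ext x)
  obtain ⟨n, hn, hx⟩ := Γ.exists_x hR e (by simpa using sq_cj g⁻¹ (Γ.kz_sq (RK hr) (R2 r hr) b)) (cj_ne e1)
    (g := g) (j := r * Γ.z b) (by group) fun s hs => by
      have : s * r = r * s := by
        obtain ⟨r', hr', a, d, rfl⟩ := (Γ.mem_S RK).1 hs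
        rw [mul_assoc, ← Γ.comm (RK hr) (Γ.uA a d), ← mul_assoc, comm_of_sq R2 hr' hr, mul_assoc]
      rw [← mul_assoc, this, mul_assoc, Γ.S_cen_z RK hs, mul_assoc]
  exact ⟨⟨Γ, R, hR, R2, R1, Γ.noA, g * n, hx, fun x => hg ((mul_mem_cancel_right hn).1 x)⟩, rfl⟩

end CL.Sz8
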